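import Groth.Agent.CycLib.DivFun
import Groth.Agent.CycLib.SpecPt
import Mathlib.AlgebraicGeometry.Morphisms.Integral
import Mathlib.RingTheory.Polynomial.Basic
import Mathlib.Topology.JacobsonSpace

/-!
Charts `Spec A[T]` of `X ×_k A¹` and the local rings at vertical divisors.
-/

set_option autoImplicit false
set_option linter.style.haveILetI false
set_option maxHeartbeats 800000

universe u

open CategoryTheory Limits AlgebraicGeometry IsLocalRing Polynomial

namespace Groth.Agent.HorizMove88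

open Groth.Agent Groth.Agent.CycLib

theorem eq_map_C_of_not_isMaximal {A : Type u} [CommRing A] (q : Ideal A[X]) [q.IsPrime]
    {m : Ideal A} [m.IsMaximal] (hm : q.comap Polynomial.C = m) (hq : ¬ q.IsMaximal) :
    q = m.map Polynomial.C := by
  letI := Ideal.Quotient.field m
  have hle : m.map Polynomial.C ≤ q := Ideal.map_le_iff_le_comap.2 hm.ge
  let π : A[X] →+* (A ⧸ m)[X] := Polynomial.mapRingHom (Ideal.Quotient.mk m)
  have hπ : Function.Surjective π := Polynomial.map_surjective _ Ideal.Quotient.mk_surjective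
  have hker : RingHom.ker π = m.map Polynomial.C := by
    rw [Polynomial.ker_mapRingHom, Ideal.mk_ker]
  have hq' : (q.map π).comap π = q := by
    rw [Ideal.comap_map_of_surjective π hπ, ← RingHom.ker_eq_comap_bot, hker, sup_eq_left.2 hle]
  haveI : (q.map π).IsPrime := Ideal.map_isPrime_of_surjective hπ (by rw [hker]; exact hle)
  by_cases h0 : q.map π = ⊥
  · rw [← hq', h0, ← RingHom.ker_eq_comap_bot, hker]
  · refine absurd ?_ hq
    haveI : (q.map π).IsMaximal := Ideal.IsPrime.isMaximal inferInstance h0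
    rw [← hq']
    exact Ideal.comap_isMaximal_of_surjective π hπ

variable {k : Type u} [Field k] {X P : Scheme.{u}} {f : X ⟶ Spec (CommRingCat.of k)}
  {p₁ : P ⟶ X} {p₂ : P ⟶ Spec (CommRingCat.of k[X])}
  (hP : IsPullback p₁ p₂ f (Spec.map (CommRingCat.ofHom (Polynomial.C : k →+* k[X]))))

/-- The coordinate on `X ×_k A¹` as a germ. -/
noncomputable def tGerm (p₂ : P ⟶ Spec (CommRingCat.of k[X])) (w : P) : P.presheaf.stalk w :=
  P.presheaf.germ ⊤ w trivial (p₂.appTop ((Scheme.ΓSpecIso (CommRingCat.of k[X])).inv Polynomial.X))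

theorem specMap_tGerm (p₂ : P ⟶ Spec (CommRingCat.of k[X])) {w ξ : P} (h : ξ ⤳ w) :
    Cyc.specMap w ξ h (tGerm p₂ w) = P.residue ξ (tGerm p₂ ξ) :=
  congrArg (P.residue ξ)
    (TopCat.Presheaf.germ_stalkSpecializes_apply P.presheaf (U := ⊤) trivial h _)

include hP in
/-- The chart of `X ×_k A¹` over an affine open of `X`. -/
theorem exists_chart {V : X.Opens} (hV : IsAffineOpen V) :
    ∃ (φ : CommRingCat.of k ⟶ Γ(X, V)) (j : Spec (CommRingCat.of Γ(X, V)[X]) ⟶ P),
      IsOpenImmersion j ∧ Set.range j = p₁ ⁻¹' (V : Set X) ∧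
      j ≫ p₁ = Spec.map (CommRingCat.ofHom (Polynomial.C : Γ(X, V) →+* Γ(X, V)[X])) ≫ hV.fromSpec ∧
      j ≫ p₂ = Spec.map (CommRingCat.ofHom (Polynomial.mapRingHom φ.hom)) := by
  let φ : CommRingCat.of k ⟶ Γ(X, V) := Spec.preimage (hV.fromSpec ≫ f)
  have hφ : Spec.map φ = hV.fromSpec ≫ f := Spec.map_preimage _
  letI : Algebra k Γ(X, V) := φ.hom.toAlgebra
  have hQ : IsPullback (Spec.map (CommRingCat.ofHom (Polynomial.C : Γ(X, V) →+* Γ(X, V)[X])))
      (Spec.map (CommRingCat.ofHom (Polynomial.mapRingHom φ.hom)))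
      (Spec.map φ) (Spec.map (CommRingCat.ofHom (Polynomial.C : k →+* k[X]))) := by
    letI := (Polynomial.mapRingHom φ.hom).toAlgebra
    exact isPullback_SpecMap_of_isPushout _ _ _ _
      (CommRingCat.isPushout_of_isPushout k Γ(X, V) k[X] Γ(X, V)[X])
  have hw : (Spec.map (CommRingCat.ofHom (Polynomial.C : Γ(X, V) →+* Γ(X, V)[X])) ≫ hV.fromSpec) ≫ f =
      Spec.map (CommRingCat.ofHom (Polynomial.mapRingHom φ.hom)) ≫
        Spec.map (CommRingCat.ofHom (Polynomial.C : k →+* k[X])) := by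
    rw [Category.assoc, ← hφ]
    exact hQ.w
  let j := hP.lift _ _ hw
  have h1 : j ≫ p₁ = Spec.map (CommRingCat.ofHom (Polynomial.C : Γ(X, V) →+* Γ(X, V)[X])) ≫ hV.fromSpec :=
    hP.lift_fst _ _ hw
  have h2 : j ≫ p₂ = Spec.map (CommRingCat.ofHom (Polynomial.mapRingHom φ.hom)) := hP.lift_snd _ _ hw
  have hj : IsPullback (Spec.map (CommRingCat.ofHom (Polynomial.C : Γ(X, V) →+* Γ(X, V)[X]))) j
      hV.fromSpec p₁ := by
    exact IsPullback.of_bot (by rw [h2, ← hφ]; exact hQ) h1.symm hP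
  haveI : IsOpenImmersion j := MorphismProperty.of_isPullback hj inferInstance
  refine ⟨φ, j, inferInstance, ?_, h1, h2⟩
  rw [← hV.range_fromSpec, ← hj.isoPullback_hom_snd, Scheme.Hom.comp_base, TopCat.coe_comp,
    Set.range_comp, Set.range_eq_univ.2 (ConcreteCategory.bijective_of_isIso _).2, Set.image_univ,
    Scheme.Pullback.range_snd]

end Groth.Agent.HorizMove88
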