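import Groth.Agent.CycLib.DivFun
import Groth.Agent.CycLib.SchemeDim
import Groth.Agent.DimOneAmple.ProperCurve
import Groth.Agent.CurveDVR.Stalk
import Groth.Agent.CycLib.SpecPt

/-!
Two functions on a proper regular curve with consecutive pole orders at a point and no other pole.
-/

set_option autoImplicit false
set_option linter.style.haveILetI false
set_option maxHeartbeats 800000

universe u

open CategoryTheory Limits AlgebraicGeometry IsLocalRing

namespace Groth.Agent.HorizMove88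

open Groth.Agent Groth.Agent.CycLib

theorem exists_mem_mul_eq {O K : Type*} [CommRing O] [IsDomain O] [IsDiscreteValuationRing O] [Field K]
    (ev : O →+* K) {g : O} (hg : g ∈ maximalIdeal O) {d : K} (hd : ev g * d = 1) {p q : O}
    (hp : ev p ≠ 0) (hq : ev q ≠ 0) :
    ∃ N, ∀ n ≥ N, ∃ c ∈ maximalIdeal O, ev c * (ev p / ev q * d ^ n) = 1 := by
  obtain ⟨π, hπ⟩ := IsDiscreteValuationRing.exists_irreducible O
  obtain ⟨e, ε, rfl⟩ := IsDiscreteValuationRing.eq_unit_mul_pow_irreducible (x := p)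
    (fun h => hp (by rw [h, map_zero])) hπ
  obtain ⟨g', rfl⟩ : π ∣ g := Ideal.mem_span_singleton.1 (hπ.maximalIdeal_eq ▸ hg)
  refine ⟨e + 1, fun n hn => ?_⟩
  obtain ⟨i, rfl⟩ := Nat.exists_eq_add_of_le hn
  refine ⟨π * (g' ^ (e + 1 + i) * π ^ i * q * (↑ε⁻¹ : O)),
    Ideal.mul_mem_right _ _ (hπ.maximalIdeal_eq ▸ Ideal.mem_span_singleton_self π), ?_⟩
  have hεe : ev (↑ε⁻¹ : O) * ev (↑ε : O) = 1 := by rw [← map_mul, Units.inv_mul, map_one]
  rw [map_mul] at hd
  simp only [map_mul, map_pow]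
  field_simp
  calc _ = (ev (↑ε⁻¹ : O) * ev (↑ε : O)) * (ev π * ev g' * d) ^ (e + 1 + i) := by ring
    _ = 1 := by rw [hεe, hd]; ring

variable (k : Type u) [Field k] {X : Scheme.{u}} [X.Over (Spec (CommRingCat.of k))]
  [IsProper (X ↘ Spec (CommRingCat.of k))] [Smooth (X ↘ Spec (CommRingCat.of k))] [IsIntegral X]

include k in
/-- Two rational functions, regular away from the closed point `x`, with poles at `x` of consecutive orders. -/
theorem exists_pair (hdim : topologicalKrullDim X = 1) {x : X} (hx : IsClosed ({x} : Set X))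
    (hxη : x ≠ genericPoint X) (η : X) (hη : η = genericPoint X) :
    ∃ a b : X.residueField η,
      (∀ (x' : X) (h : η ⤳ x'), x' ≠ x →
        (∃ a₀, Cyc.specMap x' η h a₀ = a) ∧ ∃ b₀, Cyc.specMap x' η h b₀ = b) ∧
      ∀ h : η ⤳ x, ∃ π a' b' : X.presheaf.stalk x, maximalIdeal (X.presheaf.stalk x) = Ideal.span {π} ∧
        π ≠ 0 ∧ a' ∈ maximalIdeal (X.presheaf.stalk x) ∧ b' ∈ maximalIdeal (X.presheaf.stalk x) ∧
        Cyc.specMap x η h a' * a = 1 ∧ Cyc.specMap x η h b' * b = 1 ∧ a' = π * b' := by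
  classical
  haveI := DimOneAmple.isSeparated_of_proper (X := X) k
  haveI : IsLocallyNoetherian X := LocallyOfFiniteType.isLocallyNoetherian (X ↘ Spec (CommRingCat.of k))
  have hU : IsAffineOpen (⟨{x}ᶜ, hx.isOpen_compl⟩ : X.Opens) := DimOneAmple.isAffineOpen_compl_singleton k hdim hx
  set U : X.Opens := ⟨{x}ᶜ, hx.isOpen_compl⟩ with hUdef
  have hnU : ∀ y : X, y ∉ U ↔ y = x := fun y => by
    show ¬ y ∈ ({x}ᶜ : Set X) ↔ y = x
    simp
  haveI hD : IsDiscreteValuationRing (X.presheaf.stalk x) :=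
    CurveDVR.isDiscreteValuationRing_stalk (X ↘ Spec (CommRingCat.of k)) hdim hx
  have hgen : genericPoints X = {genericPoint X} := genericPoints_eq_singleton
  have hgz : ∀ y : X, y ⤳ x → y ≠ x → y = genericPoint X := fun y hy hne => by
    by_contra hg
    have := DimOneAmple.isClosed_singleton_of_dim_le_one hdim.le
      (fun h => hg (Set.mem_singleton_iff.mp (hgen.le h)) : y ∉ genericPoints X)
    exact hne (hy.mem_closed this rfl).symm
  obtain ⟨d, hd⟩ := DimOneAmple.exists_pole hU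
    ((Set.finite_singleton x).subset fun y hy => (hnU y).1 hy)
    (fun y hy => (hnU y).1 hy ▸ hx) (fun _ _ => inferInstance)
    (fun y hy => by
      obtain rfl := (hnU y).1 hy
      rw [ringKrullDim_stalk_eq_coheight, CurveDVR.coheight_eq_one (X ↘ Spec (CommRingCat.of k)) hdim hx]
      rfl)
    {genericPoint X} (fun y hy => by
      rw [Finset.mem_singleton.1 hy]
      exact fun h => hxη (Set.mem_singleton_iff.1 h).symm)
    (fun y hy y' hy' _ => (Finset.mem_singleton.1 hy).trans (Finset.mem_singleton.1 hy').symm)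
    (fun y hy z hz hne => by
      rw [Finset.mem_singleton]
      obtain rfl := (hnU y).1 hy
      exact hgz z hz hne)
  obtain ⟨V, g, hxV, -, hxg, hgd⟩ := hd x ((hnU x).2 rfl)
  subst hη
  have hsp : ∀ y : X, genericPoint X ⤳ y := fun y => genericPoint_specializes y
  have hηU : genericPoint X ∈ U := fun h => hxη (Set.mem_singleton_iff.1 h).symm
  let ev := X.evaluation U (genericPoint X) hηU
  let sp := Cyc.specMap x (genericPoint X) (hsp x)
  have hg : X.presheaf.germ V x hxV g ∈ maximalIdeal _ := by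
    rw [mem_maximalIdeal, mem_nonunits_iff]
    exact fun h => hxg ((X.mem_basicOpen _ x hxV).2 h)
  have hgd' : sp (X.presheaf.germ V x hxV g) * ev d = 1 := by
    show Cyc.specMap _ _ _ _ * _ = _
    rw [specMap_germ]
    have := congrArg (X.evaluation (V ⊓ U) (genericPoint X) ⟨(hsp x).mem_open V.2 hxV, hηU⟩) hgd
    rw [map_mul, map_one] at this
    simp only [DimOneAmple.evaluation_rs] at this
    exact this
  -- the inverse of a uniformiser as a quotient of functions on the affine open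
  obtain ⟨π, hπ⟩ := IsDiscreteValuationRing.exists_irreducible (X.presheaf.stalk x)
  have hspinj : ∀ c, sp c = 0 → c = 0 := by
    intro c hc
    by_contra hc0
    obtain ⟨e, ε, rfl⟩ := IsDiscreteValuationRing.eq_unit_mul_pow_irreducible hc0 hπ
    rw [map_mul, map_pow, mul_eq_zero] at hc
    rcases hc with h | h
    · exact (ε.isUnit.map sp).ne_zero h
    · have h' : π ∈ RingHom.ker sp := pow_eq_zero_iff'.1 h |>.1
      have hk : RingHom.ker (Cyc.specMap x x specializes_rfl) ≤ RingHom.ker sp := by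
        refine le_trans (IsLocalRing.le_maximalIdeal (RingHom.ker_ne_top _)) ?_
        rw [hπ.maximalIdeal_eq, Ideal.span_singleton_le_iff_mem]
        exact h'
      exact hxη (((ptPrime_le_iff _ _).1 hk).antisymm (hsp x)).eq
  obtain ⟨u, s, hus⟩ := evaluation_surj hU hηU (sp π)⁻¹
  have hspπ : sp π ≠ 0 := fun h => hπ.ne_zero (hspinj π h)
  obtain ⟨hu, hs⟩ := div_ne_zero_iff.1 (hus ▸ inv_ne_zero hspπ)
  obtain ⟨W, hW, hxW, -⟩ := exists_isAffineOpen_mem_and_subset (TopologicalSpace.Opens.mem_top x)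
  have hηW := (hsp x).mem_open W.2 hxW
  obtain ⟨p, q, hpq⟩ := evaluation_surj hW hηW (ev s)
  obtain ⟨hp, hq⟩ := div_ne_zero_iff.1 (hpq ▸ hs)
  rw [← specMap_germ (hsp x) hxW] at hp
  rw [← specMap_germ (hsp x) hxW] at hq
  obtain ⟨N, hN⟩ := exists_mem_mul_eq sp hg hgd' hp hq
  obtain ⟨c, hc, hcb⟩ := hN N le_rfl
  rw [specMap_germ, specMap_germ, ← hpq] at hcb
  have hreg : ∀ (x' : X) (h : genericPoint X ⤳ x'), x' ≠ x → ∀ e : Γ(X, U),
      ∃ e₀, Cyc.specMap x' (genericPoint X) h e₀ = ev e := fun x' h hne e =>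
    ⟨X.presheaf.germ U x' (fun hh => hne hh) e, specMap_germ h _ e⟩
  refine ⟨ev (u * d ^ N), ev (s * d ^ N), fun x' h hne => ⟨hreg x' h hne _, hreg x' h hne _⟩, fun h => ?_⟩
  refine ⟨π, π * c, c, hπ.maximalIdeal_eq, hπ.ne_zero, Ideal.mul_mem_left _ _ hc, hc, ?_, ?_, rfl⟩
  · show sp (π * c) * ev (u * d ^ N) = 1
    have e1 : sp π * ev u = ev s := by
      have h2 : sp π * (ev u / ev s) = 1 := by rw [← hus]; exact mul_inv_cancel₀ hspπ
      rw [← mul_div_assoc] at h2
      exact (div_eq_one_iff_eq hs).1 h2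
    rw [map_mul, map_mul, map_pow, ← hcb, ← e1]
    ring
  · show sp c * ev (s * d ^ N) = 1
    rw [map_mul, map_pow]
    exact hcb

end Groth.Agent.HorizMove88
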