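import Groth.Agent.HorizMove88.Chart
import Groth.Agent.CycLib.DivFun

/-!
Orders of `1 + a T` along vertical divisors.
-/

set_option autoImplicit false
set_option linter.style.haveILetI false
set_option maxHeartbeats 800000

universe u

open CategoryTheory Limits AlgebraicGeometry IsLocalRing Polynomial

namespace Groth.Agent.HorizMove88

open Groth.Agent Groth.Agent.CycLib

variable {k : Type u} [Field k] {X P : Scheme.{u}} (p₁ : P ⟶ X) (p₂ : P ⟶ Spec (CommRingCat.of k[X]))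
  [IsLocallyNoetherian P] {δ : P → ℤ} (hd : Cyc.IsDimFun P δ)

/-- The function `1 + a T`. -/
noncomputable def lin (ξ : P) (a : X.residueField (p₁ ξ)) : P.residueField ξ :=
  1 + p₁.residueFieldMap ξ a * P.residue ξ (tGerm p₂ ξ)

theorem ordAt_of_isUnit {w ξ : P} (h : ξ ⤳ w) (h1 : δ w + 1 = δ ξ) (hd : Cyc.IsDimFun P δ)
    {c : P.presheaf.stalk w} (hc : IsUnit c) : Cyc.ordAt w ξ h (Cyc.specMap w ξ h c) = 0 := by
  rw [ordAt_specMap hd h h1 (hc.map _).ne_zero, LenLib.ordZ_of_isUnit (hc.map _)]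

include hd in
/-- A function without pole at the image point gives a unit. -/
theorem lin_regular {w ξ : P} (h : ξ ⤳ w) (h1 : δ w + 1 = δ ξ) {a : X.residueField (p₁ ξ)}
    {a₀ : X.presheaf.stalk (p₁ w)} (ha : Cyc.specMap (p₁ w) (p₁ ξ) (h.map p₁.continuous) a₀ = a)
    (hu : IsUnit (1 + p₁.stalkMap w a₀ * tGerm p₂ w)) :
    lin p₁ p₂ ξ a ≠ 0 ∧ Cyc.ordAt w ξ h (lin p₁ p₂ ξ a) = 0 := by
  have e : lin p₁ p₂ ξ a = Cyc.specMap w ξ h (1 + p₁.stalkMap w a₀ * tGerm p₂ w) := by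
    rw [map_add, map_one, map_mul, specMap_tGerm, ← residueFieldMap_specMap' p₁ h, ha]
    rfl
  rw [e]
  exact ⟨(hu.map _).ne_zero, ordAt_of_isUnit h h1 hd hu⟩

include hd in
/-- A function with a pole at the image point has the order of the pole. -/
theorem lin_pole {w ξ : P} (h : ξ ⤳ w) (h1 : δ w + 1 = δ ξ) {a : X.residueField (p₁ ξ)}
    {a' : X.presheaf.stalk (p₁ w)} (ha : Cyc.specMap (p₁ w) (p₁ ξ) (h.map p₁.continuous) a' * a = 1)
    (hm : a' ∈ maximalIdeal (X.presheaf.stalk (p₁ w))) (hu : IsUnit (tGerm p₂ w)) :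
    lin p₁ p₂ ξ a ≠ 0 ∧ Cyc.specMap w ξ h (p₁.stalkMap w a') ≠ 0 ∧
      Cyc.ordAt w ξ h (lin p₁ p₂ ξ a) = - Cyc.ordAt w ξ h (Cyc.specMap w ξ h (p₁.stalkMap w a')) := by
  have e0 : Cyc.specMap w ξ h (p₁.stalkMap w a') * p₁.residueFieldMap ξ a = 1 := by
    rw [← residueFieldMap_specMap' p₁ h, ← map_mul, ha, map_one]
  have hne : Cyc.specMap w ξ h (p₁.stalkMap w a') ≠ 0 := left_ne_zero_of_mul_eq_one e0
  have hsum : IsUnit (p₁.stalkMap w a' + tGerm p₂ w) := by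
    by_contra hn
    refine (mem_maximalIdeal (tGerm p₂ w)).1 ?_ hu
    have h2 : p₁.stalkMap w a' ∈ maximalIdeal (P.presheaf.stalk w) := fun hh =>
      hm (isUnit_of_map_unit (p₁.stalkMap w).hom _ hh)
    have h3 := Ideal.sub_mem _ ((mem_maximalIdeal _).2 hn : _ ∈ maximalIdeal _) h2
    rwa [add_sub_cancel_left] at h3
  have e : Cyc.specMap w ξ h (p₁.stalkMap w a') * lin p₁ p₂ ξ a =
      Cyc.specMap w ξ h (p₁.stalkMap w a' + tGerm p₂ w) := by
    rw [lin, map_add, specMap_tGerm, mul_add, mul_one, ← mul_assoc, e0, one_mul]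
  have hl : lin p₁ p₂ ξ a ≠ 0 := fun h0 => (hsum.map (Cyc.specMap w ξ h)).ne_zero (by rw [← e, h0, mul_zero])
  refine ⟨hl, hne, ?_⟩
  have := ordAt_mul hd h h1 hne hl
  rw [e, ordAt_of_isUnit h h1 hd hsum] at this
  omega

include hd in
/-- A uniformiser has order one. -/
theorem ordAt_uniformiser {w ξ : P} (h : ξ ⤳ w) (h1 : δ w + 1 = δ ξ) {t : P.presheaf.stalk w}
    (ht : maximalIdeal (P.presheaf.stalk w) = Ideal.span {t}) (hne : Cyc.specMap w ξ h t ≠ 0) :
    Cyc.ordAt w ξ h (Cyc.specMap w ξ h t) = 1 := by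
  rw [ordAt_specMap hd h h1 hne]
  let mk := Ideal.Quotient.mk (RingHom.ker (Cyc.specMap w ξ h))
  have e : Ideal.span {mk t} = (maximalIdeal (P.presheaf.stalk w)).map mk := by
    rw [ht, Ideal.map_span, Set.image_singleton]
  have hle : RingHom.ker mk ≤ maximalIdeal (P.presheaf.stalk w) := by
    rw [Ideal.mk_ker]
    exact IsLocalRing.le_maximalIdeal (RingHom.ker_ne_top _)
  haveI hmax : (Ideal.span {mk t}).IsMaximal := by
    rw [e]
    refine (Ideal.map_eq_top_or_isMaximal_of_surjective mk Ideal.Quotient.mk_surjective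
      inferInstance).resolve_left fun htop => (maximalIdeal.isMaximal (P.presheaf.stalk w)).ne_top ?_
    have hcm := Ideal.comap_map_of_surjective mk Ideal.Quotient.mk_surjective (maximalIdeal (P.presheaf.stalk w))
    rw [htop, Ideal.comap_top, ← RingHom.ker_eq_comap_bot, sup_eq_left.2 hle] at hcm
    exact hcm.symm
  unfold LenLib.ordZ LenLib.lenZ
  have hl : Module.length (Cyc.LocQuot w ξ h) (Cyc.LocQuot w ξ h ⧸ Ideal.span {mk t}) = 1 :=
    Module.length_eq_one_iff.2 (isSimpleModule_iff_isCoatom.2 hmax.out)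
  rw [hl]
  rfl

include hd in
/-- The order of the quotient `(1 + b T) / (1 + a T)` along a vertical divisor. -/
theorem ordAt_quot {w ξ : P} (h : ξ ⤳ w) (h1 : δ w + 1 = δ ξ) {a b : X.residueField (p₁ ξ)}
    (ha : lin p₁ p₂ ξ a ≠ 0) (hb : lin p₁ p₂ ξ b ≠ 0) :
    Cyc.ordAt w ξ h (lin p₁ p₂ ξ b / lin p₁ p₂ ξ a) =
      Cyc.ordAt w ξ h (lin p₁ p₂ ξ b) - Cyc.ordAt w ξ h (lin p₁ p₂ ξ a) := by
  have := ordAt_mul hd h h1 (div_ne_zero hb ha) ha
  rw [div_mul_cancel₀ _ ha] at this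
  omega

end Groth.Agent.HorizMove88
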