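import Groth.Agent.HorizMove88.Chart
import Mathlib.AlgebraicGeometry.Morphisms.FiniteType

/-!
The local ring of `X ×_k A¹` at a vertical divisor.
-/

set_option autoImplicit false
set_option linter.style.haveILetI false
set_option maxHeartbeats 800000

universe u

open CategoryTheory Limits AlgebraicGeometry IsLocalRing Polynomial

namespace Groth.Agent.HorizMove88

open Groth.Agent Groth.Agent.CycLib

variable {k : Type u} [Field k] {X P : Scheme.{u}} {f : X ⟶ Spec (CommRingCat.of k)}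
  {p₁ : P ⟶ X} {p₂ : P ⟶ Spec (CommRingCat.of k[X])}

theorem algebraMap_stalk_germ {B : Type u} [CommRing B] (q : ↥(Spec (CommRingCat.of B))) (c : B) :
    (StructureSheaf.toStalk B q).hom c =
      (Spec (CommRingCat.of B)).presheaf.germ ⊤ q trivial ((Scheme.ΓSpecIso (CommRingCat.of B)).inv c) :=
  (ConcreteCategory.congr_hom (StructureSheaf.algebraMap_germ (R := B) ⊤ q trivial) c).symm

theorem fromSpec_appLE {V : X.Opens} (hV : IsAffineOpen V) {B : Type u} [CommRing B]
    (ψ : Γ(X, V) →+* B) (g : Spec (CommRingCat.of B) ⟶ X)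
    (hg : g = Spec.map (CommRingCat.ofHom ψ) ≫ hV.fromSpec) (q : ↥(Spec (CommRingCat.of B))) (hq : g q ∈ V)
    (a : Γ(X, V)) :
    g.stalkMap q (X.presheaf.germ V (g q) hq a) =
      (Spec (CommRingCat.of B)).presheaf.germ ⊤ q trivial ((Scheme.ΓSpecIso (CommRingCat.of B)).inv (ψ a)) := by
  subst hg
  rw [Scheme.Hom.stalkMap_comp]
  show (Spec.map (CommRingCat.ofHom ψ)).stalkMap q
    (hV.fromSpec.stalkMap _ (X.presheaf.germ V (hV.fromSpec (Spec.map (CommRingCat.ofHom ψ) q)) hq a)) = _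
  refine (congrArg ((Spec.map (CommRingCat.ofHom ψ)).stalkMap q)
    (Scheme.Hom.germ_stalkMap_apply hV.fromSpec V _ hq a)).trans ?_
  rw [IsAffineOpen.fromSpec_app_self]
  show (Spec.map (CommRingCat.ofHom ψ)).stalkMap q ((Spec Γ(X, V)).presheaf.germ _ _ _
    ((Spec Γ(X, V)).presheaf.map _ ((Scheme.ΓSpecIso Γ(X, V)).inv a))) = _
  rw [TopCat.Presheaf.germ_res_apply]
  refine ((Spec.map (CommRingCat.ofHom ψ)).germ_stalkMap_apply ⊤ q trivial
    ((Scheme.ΓSpecIso Γ(X, V)).inv a)).trans ?_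
  exact congrArg ((Spec (CommRingCat.of B)).presheaf.germ ⊤ q trivial)
    congr($(Scheme.ΓSpecIso_inv_naturality (CommRingCat.ofHom ψ)) a).symm

variable (hP : IsPullback p₁ p₂ f (Spec.map (CommRingCat.ofHom (Polynomial.C : k →+* k[X]))))

include hP in
/-- The points over a closed point of `X` which are not closed: there is one, and its local ring is a
discrete valuation ring with the same uniformiser. -/
theorem vert [IsIntegral X] [LocallyOfFiniteType f] {x : X} (hx : IsClosed ({x} : Set X)) (hxη : x ≠ genericPoint X)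
    (hgen : ∀ x' : X, x' ⤳ x → x' = x ∨ x' = genericPoint X)
    {π : X.presheaf.stalk x} (hπ : maximalIdeal (X.presheaf.stalk x) = Ideal.span {π}) (hπ0 : π ≠ 0)
    (z : P) (hz : p₁ z = x) (hzc : ¬ IsClosed ({z} : Set P)) :
    (∀ w, p₁ w = x → ¬ IsClosed ({w} : Set P) → w = z) ∧
    IsUnit (tGerm p₂ z) ∧ (∀ c, IsUnit (1 + p₁.stalkMap z c * tGerm p₂ z)) ∧
    maximalIdeal (P.presheaf.stalk z) = (maximalIdeal (X.presheaf.stalk (p₁ z))).map (p₁.stalkMap z).hom ∧
    ∃ ξ : P, ξ ⤳ z ∧ p₁ ξ = genericPoint X ∧ ∀ u, ξ ⤳ u → u ⤳ z → u = ξ ∨ u = z := by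
  classical
  subst hz
  obtain ⟨V, hV, hxV, -⟩ := exists_isAffineOpen_mem_and_subset (TopologicalSpace.Opens.mem_top (p₁ z))
  obtain ⟨φ, j, hj, hrange, h1, h2⟩ := exists_chart hP hV
  haveI : LocallyOfFiniteType p₂ := MorphismProperty.of_isPullback hP inferInstance
  haveI : LocallyOfFiniteType (Spec.map (CommRingCat.ofHom (Polynomial.C : k →+* k[X]))) := by
    rw [HasRingHomProperty.Spec_iff (P := @LocallyOfFiniteType)]
    exact RingHom.finiteType_algebraMap.2 (inferInstanceAs (Algebra.FiniteType k k[X]))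
  haveI : JacobsonSpace ↥P :=
    LocallyOfFiniteType.jacobsonSpace (p₂ ≫ Spec.map (CommRingCat.ofHom (Polynomial.C : k →+* k[X])))
  let A := Γ(X, V)
  haveI : Nonempty V := ⟨⟨p₁ z, hxV⟩⟩
  haveI : IsDomain A := inferInstance
  let m := (hV.primeIdealOf ⟨p₁ z, hxV⟩).asIdeal
  haveI hm : m.IsMaximal := hV.primeIdealOf_isMaximal_of_isClosed ⟨p₁ z, hxV⟩ hx
  have hq : ∀ w, p₁ w = p₁ z → ¬ IsClosed ({w} : Set P) →
      ∃ q : ↥(Spec (CommRingCat.of A[X])), j q = w ∧ (q : PrimeSpectrum A[X]).asIdeal = m.map Polynomial.C := by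
    intro w hw hwc
    obtain ⟨q, rfl⟩ : w ∈ Set.range j := by
      rw [hrange]
      show p₁ w ∈ V
      rw [hw]
      exact hxV
    refine ⟨q, rfl, ?_⟩
    refine eq_map_C_of_not_isMaximal _ ?_ fun hmax => hwc ?_
    · have e : hV.fromSpec (Spec.map (CommRingCat.ofHom (Polynomial.C : A →+* A[X])) q) = p₁ z := by
        rw [← hw]
        show (Spec.map (CommRingCat.ofHom (Polynomial.C : A →+* A[X])) ≫ hV.fromSpec) q = _
        rw [← h1]
        rfl
      exact congrArg PrimeSpectrum.asIdeal (hV.fromSpec.isOpenEmbedding.injective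
        (e.trans (hV.fromSpec_primeIdealOf ⟨p₁ z, hxV⟩).symm))
    · have h0 : q ∈ closedPoints ↥(Spec (CommRingCat.of A[X])) :=
        mem_closedPoints_iff.2 ((PrimeSpectrum.isClosed_singleton_iff_isMaximal _).2 hmax)
      rw [← j.isOpenEmbedding.preimage_closedPoints] at h0
      exact mem_closedPoints_iff.1 h0
  obtain ⟨q, hjq, hqm⟩ := hq z rfl hzc
  refine ⟨fun w hw hwc => ?_, ?_⟩
  · obtain ⟨q', hq', hqm'⟩ := hq w hw hwc
    rw [← hq', ← hjq, show q' = q from PrimeSpectrum.ext (hqm'.trans hqm.symm)]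
  subst hjq
  let L := (Spec (CommRingCat.of A[X])).presheaf.stalk q
  letI : Algebra A[X] L := StructureSheaf.stalkAlgebra A[X] q
  haveI : IsLocalization.AtPrime L (q : PrimeSpectrum A[X]).asIdeal := StructureSheaf.IsLocalization.to_stalk A[X] q
  let σ : P.presheaf.stalk (j q) →+* L := (j.stalkMap q).hom
  have hσ : Function.Bijective σ := ConcreteCategory.bijective_of_isIso (j.stalkMap q)
  have hσC : ∀ a : A, σ (p₁.stalkMap (j q) (X.presheaf.germ V _ hxV a)) = algebraMap A[X] L (Polynomial.C a) := by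
    intro a
    have e := fromSpec_appLE hV (Polynomial.C : A →+* A[X]) (j ≫ p₁) h1 q hxV a
    rw [Scheme.Hom.stalkMap_comp] at e
    exact e.trans (algebraMap_stalk_germ q _).symm
  have hσT : σ (tGerm p₂ (j q)) = algebraMap A[X] L Polynomial.X := by
    refine Eq.trans ?_ (algebraMap_stalk_germ q _).symm
    show j.stalkMap q (P.presheaf.germ ⊤ (j q) trivial _) = _
    rw [Scheme.Hom.germ_stalkMap_apply]
    show (Spec (CommRingCat.of A[X])).presheaf.germ ⊤ q trivial
      ((p₂.appTop ≫ j.appTop) ((Scheme.ΓSpecIso (CommRingCat.of k[X])).inv Polynomial.X)) = _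
    congr 1
    rw [← Scheme.Hom.comp_appTop, h2]
    have := congr($(Scheme.ΓSpecIso_inv_naturality (CommRingCat.ofHom (Polynomial.mapRingHom φ.hom))) Polynomial.X)
    refine this.symm.trans ?_
    exact congrArg (Scheme.ΓSpecIso (CommRingCat.of Γ(X, V)[X])).inv (Polynomial.map_X φ.hom)
  haveI : IsDomain L := IsLocalization.isDomain_of_le_nonZeroDivisors L
    (Ideal.primeCompl_le_nonZeroDivisors (q : PrimeSpectrum A[X]).asIdeal)
  haveI : IsDomain (P.presheaf.stalk (j q)) := hσ.1.isDomain σ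
  have hCmem : ∀ a : A, Polynomial.C a ∈ (q : PrimeSpectrum A[X]).asIdeal ↔ a ∈ m := fun a => by
    rw [hqm]
    constructor
    · intro h
      have := Ideal.mem_map_C_iff.1 h 0
      rwa [Polynomial.coeff_C_zero] at this
    · exact Ideal.mem_map_of_mem _
  have hXmem : ∀ u s : A, s ∉ m → Polynomial.C s + Polynomial.C u * Polynomial.X ∉ (q : PrimeSpectrum A[X]).asIdeal := by
    intro u s hs h
    rw [hqm] at h
    have := Ideal.mem_map_C_iff.1 h 0
    simp at this
    exact hs this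
  letI := TopCat.Presheaf.algebra_section_stalk X.presheaf (⟨p₁ (j q), hxV⟩ : V)
  haveI := hV.isLocalization_stalk ⟨p₁ (j q), hxV⟩
  have hfrac : ∀ c : X.presheaf.stalk (p₁ (j q)), ∃ u s : A, s ∉ m ∧
      σ (p₁.stalkMap (j q) c) * algebraMap A[X] L (Polynomial.C s) = algebraMap A[X] L (Polynomial.C u) := by
    intro c
    obtain ⟨⟨u, s⟩, h⟩ := IsLocalization.surj m.primeCompl c
    refine ⟨u, s, s.2, ?_⟩
    rw [← hσC, ← hσC, ← map_mul, ← map_mul]
    exact congrArg (fun t => σ (p₁.stalkMap (j q) t)) h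
  have hunit : ∀ s : A, s ∉ m → IsUnit (algebraMap A[X] L (Polynomial.C s)) := fun s hs =>
    IsLocalization.map_units L (⟨Polynomial.C s, fun h => hs ((hCmem s).1 h)⟩ : (q : PrimeSpectrum A[X]).asIdeal.primeCompl)
  have hunitσ : ∀ y, IsUnit (σ y) → IsUnit y := fun y hy =>
    (MulEquiv.isUnit_map (RingEquiv.ofBijective σ hσ).toMulEquiv).1 hy
  refine ⟨hunitσ _ ?_, fun c => hunitσ _ ?_, ?_⟩
  · rw [hσT]
    refine IsLocalization.map_units L (⟨Polynomial.X, fun h => ?_⟩ : (q : PrimeSpectrum A[X]).asIdeal.primeCompl)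
    rw [hqm] at h
    have := Ideal.mem_map_C_iff.1 h 1
    rw [Polynomial.coeff_X_one] at this
    exact hm.ne_top ((Ideal.eq_top_iff_one m).2 this)
  · obtain ⟨u, s, hs, h⟩ := hfrac c
    refine isUnit_of_mul_isUnit_left (y := algebraMap A[X] L (Polynomial.C s)) ?_
    rw [map_add, map_mul, map_one, hσT, add_mul, one_mul, mul_right_comm, h, ← map_mul, ← map_add]
    exact IsLocalization.map_units L (⟨_, hXmem u s hs⟩ : (q : PrimeSpectrum A[X]).asIdeal.primeCompl)
  have hmz : maximalIdeal (P.presheaf.stalk (j q)) =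
      (maximalIdeal (X.presheaf.stalk (p₁ (j q)))).map (p₁.stalkMap (j q)).hom := by
    refine le_antisymm ?_ (Ideal.map_le_iff_le_comap.2 fun y hy hu => hy (isUnit_of_map_unit (p₁.stalkMap (j q)).hom y hu))
    intro y hy
    have hy' : σ y ∈ maximalIdeal L := by
      rw [IsLocalRing.mem_maximalIdeal, mem_nonunits_iff]
      exact fun h => hy (hunitσ y h)
    rw [← IsLocalization.AtPrime.map_eq_maximalIdeal (q : PrimeSpectrum A[X]).asIdeal L, hqm, Ideal.map_map] at hy'
    have he : ((algebraMap A[X] L).comp Polynomial.C : A →+* L) =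
        (σ.comp (p₁.stalkMap (j q)).hom).comp (algebraMap A (X.presheaf.stalk (p₁ (j q)))) :=
      RingHom.ext fun a => (hσC a).symm
    rw [he, ← Ideal.map_map, ← Ideal.map_map, IsLocalization.AtPrime.map_eq_maximalIdeal] at hy'
    obtain ⟨y', hy'', he'⟩ := (Ideal.mem_map_iff_of_surjective σ hσ.2).1 hy'
    rwa [← hσ.1 he']
  refine ⟨hmz, ?_⟩
  -- the generic point
  obtain ⟨ξ, hξ, he⟩ := exists_ptPrime (j q) ⟨⊥, Ideal.isPrime_bot⟩
  have hker : RingHom.ker (Cyc.specMap (j q) ξ hξ) = ⊥ := congrArg PrimeSpectrum.asIdeal he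
  set t := p₁.stalkMap (j q) π with ht
  have ht0 : t ≠ 0 := by
    intro h0
    obtain ⟨u, s, hs, h⟩ := hfrac π
    rw [← ht, h0, map_zero, zero_mul] at h
    have hu : u = 0 := Polynomial.C_eq_zero.1 ((map_eq_zero_iff _ (IsLocalization.injective L
      (Ideal.primeCompl_le_nonZeroDivisors (q : PrimeSpectrum A[X]).asIdeal))).1 h.symm)
    obtain ⟨⟨u', s'⟩, h'⟩ := IsLocalization.surj m.primeCompl π
    have := congrArg (fun t => σ (p₁.stalkMap (j q) t)) h'
    simp only [map_mul] at this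
    rw [← ht, h0, map_zero, zero_mul, show σ (p₁.stalkMap (j q) (algebraMap A _ u')) = _ from hσC u'] at this
    have hu' : u' = 0 := Polynomial.C_eq_zero.1 ((map_eq_zero_iff _ (IsLocalization.injective L
      (Ideal.primeCompl_le_nonZeroDivisors (q : PrimeSpectrum A[X]).asIdeal))).1 this.symm)
    rw [hu', map_zero] at h'
    exact hπ0 ((IsLocalization.map_units _ s').mul_left_eq_zero.1 h')
  have hmt : maximalIdeal (P.presheaf.stalk (j q)) = Ideal.span {t} := by
    rw [hmz, hπ, Ideal.map_span, Set.image_singleton]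
  refine ⟨ξ, hξ, ?_, fun u hu huz => ?_⟩
  · rcases hgen (p₁ ξ) (hξ.map p₁.continuous) with h | h
    · exfalso
      refine ht0 (hker.le ?_ : t ∈ (⊥ : Ideal _))
      rw [RingHom.mem_ker, ht, ← residueFieldMap_specMap' p₁ hξ, map_eq_zero]
      have key : ∀ (y : X) (hy : y ⤳ p₁ (j q)), y = p₁ (j q) →
          π ∈ RingHom.ker (Cyc.specMap (p₁ (j q)) y hy) := by
        rintro y hy rfl
        rw [ker_specMap_eq_comap, show X.presheaf.stalkSpecializes hy = 𝟙 _ from
          TopCat.Presheaf.stalk_hom_ext _ fun U hU => by simp]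
        exact hπ ▸ Ideal.mem_span_singleton_self π
      exact key _ _ h
    · exact h
  · haveI := RingHom.ker_isPrime (Cyc.specMap (j q) u huz)
    by_cases htu : t ∈ RingHom.ker (Cyc.specMap (j q) u huz)
    · right
      have hkm : RingHom.ker (Cyc.specMap (j q) u huz) = maximalIdeal _ :=
        le_antisymm (IsLocalRing.le_maximalIdeal (RingHom.ker_ne_top _))
          (hmt ▸ (Ideal.span_singleton_le_iff_mem _).2 htu)
      have h0 : RingHom.ker (Cyc.specMap (j q) (j q) specializes_rfl) ≤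
          RingHom.ker (Cyc.specMap (j q) u huz) := hkm ▸ IsLocalRing.le_maximalIdeal (RingHom.ker_ne_top _)
      exact (huz.antisymm ((ptPrime_le_iff _ _).1 h0)).eq
    · left
      haveI : IsLocallyNoetherian P :=
        LocallyOfFiniteType.isLocallyNoetherian (p₂ ≫ Spec.map (CommRingCat.ofHom (Polynomial.C : k →+* k[X])))
      have hbot : RingHom.ker (Cyc.specMap (j q) u huz) = ⊥ := by
        refine Submodule.eq_bot_of_le_smul_of_le_jacobson_bot (Ideal.span {t}) _ (IsNoetherian.noetherian _) ?_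
          (hmt ▸ IsLocalRing.maximalIdeal_le_jacobson _)
        intro y hy
        have : y ∈ Ideal.span {t} := hmt ▸ IsLocalRing.le_maximalIdeal (RingHom.ker_ne_top _) hy
        obtain ⟨d, rfl⟩ := Ideal.mem_span_singleton'.1 this
        rw [mul_comm, smul_eq_mul]
        exact Ideal.mul_mem_mul (Ideal.mem_span_singleton_self t)
          ((Ideal.IsPrime.mem_or_mem inferInstance hy).resolve_right htu)
      have h0 : RingHom.ker (Cyc.specMap (j q) u huz) ≤ RingHom.ker (Cyc.specMap (j q) ξ hξ) := by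
        rw [hbot]
        exact bot_le
      exact (((ptPrime_le_iff _ _).1 h0).antisymm hu).eq

end Groth.Agent.HorizMove88
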